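import Mathlib
import Groth.Agent.SecComp.FlatNbhd
import Groth.Agent.SecDim.RedBC
import Groth.Agent.S2522
import Groth.Agent.S1301
import Groth.Agent.ConstrLib.Basic
import Mathlib.AlgebraicGeometry.Morphisms.FinitePresentation

/-!
The locus where the fibre is geometrically reduced: restriction to opens and spreading out.
-/

set_option autoImplicit false
set_option linter.style.haveILetI false
universe u
open CategoryTheory AlgebraicGeometry Limits Topology TopologicalSpace

noncomputable section

namespace Groth.Agent.GRLocus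

variable {X Y : Scheme.{u}}

/-- The points whose fibre is geometrically reduced there. -/
def locus (f : X ⟶ Y) : Set X :=
  {x : X | FBase.IsGeomReducedAt (f.fiberToSpecResidueField (f x)) (f.asFiber x)}

theorem mem_locus_iff (f : X ⟶ Y) (x : X) :
    x ∈ locus f ↔ FBase.IsGeomReducedAt (f.fiberToSpecResidueField (f x)) (f.asFiber x) := Iff.rfl

/-- Pointwise geometric reducedness gives geometric reducedness. -/
theorem geometricallyReduced_of_forall {k : Type u} [Field k] {Z : Scheme.{u}}
    (π : Z ⟶ Spec (CommRingCat.of k)) (h : ∀ z, FBase.IsGeomReducedAt π z) : GeometricallyReduced π := by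
  refine ⟨geometrically_iff_of_commRing_of_isClosedUnderIsomorphisms.mpr fun L _ _ => ?_⟩
  haveI : ∀ x' : ↥(FBase.bc π L), _root_.IsReduced ((FBase.bc π L).presheaf.stalk x') :=
    fun x' => h _ L x' rfl
  exact isReduced_of_isReduced_stalk (FBase.bc π L)

/-- Reading the locus at a point of a given fibre. -/
theorem isGeomReducedAt_fiber_of (f : X ⟶ Y) {y : Y} (x : X) (hxy : f x = y) (h : x ∈ locus f)
    (v : ↥(f.fiber y)) (hv : f.fiberι y v = x) :
    FBase.IsGeomReducedAt (f.fiberToSpecResidueField y) v := by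
  subst hxy
  rw [show v = f.asFiber x from (f.fiberι (f x)).isEmbedding.injective (hv.trans (f.fiberι_asFiber x).symm)]
  exact h

/-- The locus is computed on opens of source and target. -/
theorem mem_locus_restrict_iff {X' Y' : Scheme.{u}} {f : X ⟶ Y} {f' : X' ⟶ Y'} {j : X' ⟶ X}
    {i : Y' ⟶ Y} [IsOpenImmersion j] [IsOpenImmersion i] (w : f' ≫ i = j ≫ f) (z : X') :
    z ∈ locus f' ↔ j z ∈ locus f := by
  refine ⟨fun hx => ?_, fun hx => SecComp.isGeomReducedAt_restrict w hx⟩
  rw [mem_locus_iff]
  intro K _ _ x' hx'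
  have hzy : i (f' z) = f (j z) := by rw [← Scheme.Hom.comp_apply, w, Scheme.Hom.comp_apply]
  let al : Y.residueField (f (j z)) ⟶ CommRingCat.of K :=
    CommRingCat.ofHom (algebraMap (IsLocalRing.ResidueField (Y.presheaf.stalk (f (j z)))) K)
  let c : Y'.residueField (f' z) ⟶ CommRingCat.of K :=
    inv (i.residueFieldMap (f' z)) ≫ (Y.residueFieldCongr hzy).hom ≫ al
  let bcs := Spec.map c
  let ψ := Spec.map al
  let pt := bcs ≫ Y'.fromSpecResidueField (f' z) ≫ i
  have hψ : ψ ≫ Y.fromSpecResidueField (f (j z)) = pt := by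
    simp only [ψ, pt, bcs, c, Spec.map_comp, Category.assoc]
    rw [← i.SpecMap_residueFieldMap_fromSpecResidueField, ← Spec.map_comp_assoc (i.residueFieldMap (f' z)),
      IsIso.hom_inv_id, Spec.map_id, Category.id_comp, Scheme.residueFieldCongr_fromSpecResidueField]
  let fk := f.fiberToSpecResidueField (f (j z))
  have h1 : IsPullback (pullback.fst fk ψ ≫ f.fiberι (f (j z))) (pullback.snd fk ψ) f pt :=
    hψ ▸ (IsPullback.of_hasPullback fk ψ).paste_horiz
      (IsPullback.of_hasPullback f (Y.fromSpecResidueField (f (j z))))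
  let a := pullback.fst (f'.fiberToSpecResidueField (f' z)) bcs ≫ f'.fiberι (f' z)
  let b := pullback.snd (f'.fiberToSpecResidueField (f' z)) bcs
  have hU : IsPullback a b f' (bcs ≫ Y'.fromSpecResidueField (f' z)) :=
    (IsPullback.of_hasPullback (f'.fiberToSpecResidueField (f' z)) bcs).paste_horiz
      (IsPullback.of_hasPullback f' (Y'.fromSpecResidueField (f' z)))
  have h2 : IsPullback a b (j ≫ f) pt := by
    rw [← w]
    refine IsPullback.of_isLimit' ⟨by simp only [pt]; rw [← Category.assoc, hU.w]; simp [Category.assoc]⟩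
      (PullbackCone.IsLimit.mk _ (fun s => hU.lift s.fst s.snd ((cancel_mono i).mp
        (by simpa [pt, Category.assoc] using s.condition))) (fun s => hU.lift_fst _ _ _)
        (fun s => hU.lift_snd _ _ _) fun s m h₁ h₂ => ?_)
    exact hU.hom_ext (h₁.trans (hU.lift_fst _ _ _).symm) (h₂.trans (hU.lift_snd _ _ _).symm)
  let m := h1.lift (a ≫ j) b (by rw [Category.assoc]; exact h2.w)
  have h3 : IsPullback a m j (pullback.fst fk ψ ≫ f.fiberι (f (j z))) :=
    IsPullback.of_bot (by rw [h1.lift_snd]; exact h2) (h1.lift_fst _ _ _).symm h1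
  haveI : IsOpenImmersion m := MorphismProperty.of_isPullback (P := @IsOpenImmersion) h3 inferInstance
  let x₀ : ↥(pullback fk ψ) := x'
  obtain ⟨p₀, hp₁, hp₂⟩ := Scheme.exists_preimage_of_isPullback h3 z x₀ (by
    rw [Scheme.Hom.comp_apply, show pullback.fst fk ψ x₀ = f.asFiber (j z) from hx', f.fiberι_asFiber])
  haveI : _root_.IsReduced ((pullback (f'.fiberToSpecResidueField (f' z)) bcs).presheaf.stalk p₀) :=
    @hx K _ c.hom.toAlgebra p₀ ((f'.fiberι (f' z)).isEmbedding.injective (by
      rw [f'.fiberι_asFiber]; exact hp₁))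
  haveI : _root_.IsReduced ((pullback fk ψ).presheaf.stalk (m p₀)) :=
    isReduced_of_injective (asIso (m.stalkMap p₀)).commRingCatIsoToRingEquiv.toRingHom
      (asIso (m.stalkMap p₀)).commRingCatIsoToRingEquiv.injective
  rwa [hp₂] at this

/-- Finite type over a locally Noetherian base is finite presentation. -/
theorem locallyOfFinitePresentation_of_lft (f : X ⟶ Y) [IsLocallyNoetherian Y] [LocallyOfFiniteType f] :
    LocallyOfFinitePresentation f := by
  rw [HasRingHomProperty.iff_appLE (P := @LocallyOfFinitePresentation.{u})]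
  intro U V e
  haveI : IsNoetherianRing Γ(Y, U.1) := IsLocallyNoetherian.component_noetherian U
  exact RingHom.FinitePresentation.of_finiteType.mp (f.finiteType_appLE U.2 V.2 e)

/-- Spreading out: a point of the locus has, in its closure, an open neighbourhood inside the locus. -/
theorem exists_open_inter_subset [IsAffine Y] [IsNoetherian Y] [IsNoetherian X] (f : X ⟶ Y)
    [LocallyOfFiniteType f] {F : Set X} {ξ : X} (hξ : IsGenericPoint ξ F) (hmem : ξ ∈ locus f) :
    ∃ U : Set X, IsOpen U ∧ (U ∩ F).Nonempty ∧ U ∩ F ⊆ locus f := by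
  classical
  let y := f ξ
  haveI : LocallyOfFiniteType (f.fiberToSpecResidueField y) :=
    MorphismProperty.pullback_snd (P := @LocallyOfFiniteType) _ _ inferInstance
  haveI : IsLocallyNoetherian (f.fiber y) := LocallyOfFiniteType.isLocallyNoetherian (f.fiberToSpecResidueField y)
  obtain ⟨O, hO, hOeq⟩ := (f.fiberι y).isEmbedding.isInducing.isOpen_iff.mp
    (S2522.result (f.fiberToSpecResidueField y))
  have hξO : ξ ∈ O := by
    have : f.asFiber ξ ∈ {z : ↥(f.fiber y) | FBase.IsGeomReducedAt (f.fiberToSpecResidueField y) z} := hmem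
    rw [← hOeq, Set.mem_preimage, f.fiberι_asFiber] at this
    exact this
  obtain ⟨U, hU, hξU, hUO⟩ := exists_isAffineOpen_mem_and_subset (x := ξ) (U := ⟨O, hO⟩) hξO
  let fU := U.ι ≫ f
  haveI : IsAffine (U : Scheme.{u}) := hU
  haveI : IsAffineHom fU := isAffineHom_of_isAffine _
  haveI : LocallyOfFiniteType fU := inferInstance
  haveI : LocallyOfFinitePresentation fU := locallyOfFinitePresentation_of_lft fU
  have wU : fU ≫ 𝟙 Y = U.ι ≫ f := Category.comp_id _
  have hGR : GeometricallyReduced (fU.fiberToSpecResidueField y) := by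
    refine geometricallyReduced_of_forall _ fun z => ?_
    obtain ⟨z', hz'⟩ : ∃ z', z' = fU.fiberι y z := ⟨_, rfl⟩
    have hzy : fU z' = y := (fU.range_fiberι y).le ⟨z, hz'.symm⟩
    have h1 : U.ι z' ∈ locus f := by
      have hzO : U.ι z' ∈ O := hUO (U.range_ι.le ⟨z', rfl⟩)
      have hfy : f (U.ι z') = y := by rw [← Scheme.Hom.comp_apply]; exact hzy
      refine SecComp.isGeomReducedAt_of_fiber f (U.ι z') hfy fun v hv => ?_
      exact (hOeq.le (show v ∈ f.fiberι y ⁻¹' O by rw [Set.mem_preimage, hv]; exact hzO) :)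
    have h2 : z' ∈ locus fU := (mem_locus_restrict_iff wU z').mpr h1
    subst hz'
    exact isGeomReducedAt_fiber_of fU _ hzy h2 z rfl
  let E : Set Y := {t : Y | GeometricallyReduced (fU.fiberToSpecResidueField t)}
  haveI : NoetherianSpace ↥Y := inferInstance
  have hE : IsConstructible E := (S1301.result fU).isConstructible
  obtain ⟨V, hV, hVne, hVE⟩ := ConstrLib.exists_open_subset_of_dense_constructible
    (isIrreducible_singleton (x := y)).closure hE
    (closure_mono (Set.singleton_subset_iff.mpr ⟨hGR, subset_closure rfl⟩))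
  obtain ⟨t, htV, ht⟩ := hVne
  have hyV : y ∈ V := (specializes_iff_mem_closure.mpr ht).mem_open hV htV
  refine ⟨(U : Set X) ∩ f ⁻¹' V, U.2.inter (hV.preimage f.continuous), ⟨ξ, ⟨hξU, hyV⟩, hξ.mem⟩, ?_⟩
  rintro x ⟨⟨hxU, hxV⟩, hxF⟩
  let x₁ : ↥(U : Scheme.{u}) := ⟨x, hxU⟩
  have hx₁ : fU x₁ ∈ E := hVE ⟨hxV, specializes_iff_mem_closure.mp ((hξ.specializes hxF).map f.continuous)⟩
  haveI : GeometricallyReduced (fU.fiberToSpecResidueField (fU x₁)) := hx₁
  exact (mem_locus_restrict_iff wU x₁).mp
    (@SecComp.isGeomReducedAt_of_geometricallyReduced (Y.residueField (fU x₁)) _ _ (fU.fiberToSpecResidueField (fU x₁)) hx₁ (fU.asFiber x₁))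

end Groth.Agent.GRLocus
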