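import Mathlib
import Groth.Agent.FlatMisc.ValuationRed
import Groth.Agent.FlatMor.FibreStalk
import Groth.Agent.FlatOpen.Scheme

/-!
Reducedness near a reduced point of the special fibre of a flat scheme over a valuation ring.
-/

set_option autoImplicit false
set_option linter.style.haveILetI false
universe u
open CategoryTheory AlgebraicGeometry IsLocalRing Topology

noncomputable section

namespace Groth.Agent.GRLocus

/-- Pointwise form of `FlatMisc.ValuationRed.exists_mul_eq_zero`. -/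
theorem isReduced_localization_of_reduced_quotient_at {R A : Type u} [CommRing R] [IsDomain R] [ValuationRing R]
    [CommRing A] [Algebra R A] [Algebra.FiniteType R A] [Module.Flat R A] (p q : Ideal A) [p.IsPrime] [q.IsPrime]
    (hqp : q ≤ p) (hp : (maximalIdeal R).map (algebraMap R A) ≤ p)
    (hred : ∀ b : A, (∃ n : ℕ, b ^ n ∈ (maximalIdeal R).map (algebraMap R A)) →
      ∃ t ∉ p, t * b ∈ (maximalIdeal R).map (algebraMap R A)) :
    _root_.IsReduced (Localization.AtPrime q) := by
  classical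
  set I := (maximalIdeal R).map (algebraMap R A) with hI
  -- finitely many generators of the nilradical of the special fibre
  haveI : IsNoetherianRing (A ⧸ I) := by
    letI : Algebra (R ⧸ maximalIdeal R) (A ⧸ I) :=
      (Ideal.quotientMap I (algebraMap R A) Ideal.le_comap_map).toAlgebra
    letI : Field (R ⧸ maximalIdeal R) := Ideal.Quotient.field _
    haveI : IsScalarTower R (R ⧸ maximalIdeal R) (A ⧸ I) := IsScalarTower.of_algebraMap_eq fun r => rfl
    haveI : Algebra.FiniteType (R ⧸ maximalIdeal R) (A ⧸ I) :=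
      Algebra.FiniteType.of_restrictScalars_finiteType R _ _
    exact Algebra.FiniteType.isNoetherianRing (R ⧸ maximalIdeal R) _
  obtain ⟨S, hS⟩ := IsNoetherian.noetherian (nilradical (A ⧸ I))
  have hlift : ∀ g : S, ∃ t ∉ p, ∃ b, Ideal.Quotient.mk I b = g.1 ∧ t * b ∈ I := fun g => by
    obtain ⟨b, hb⟩ := Ideal.Quotient.mk_surjective g.1
    have hgn : IsNilpotent (g.1 : A ⧸ I) := mem_nilradical.mp (hS.le (Submodule.subset_span g.2))
    obtain ⟨n, hn⟩ := hgn
    obtain ⟨t, ht, htb⟩ := hred b ⟨n, Ideal.Quotient.eq_zero_iff_mem.mp (by rw [map_pow, hb]; exact hn)⟩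
    exact ⟨t, ht, b, hb, htb⟩
  choose t ht b hb htb using hlift
  set s := ∏ g : S, t g with hs'
  have hsp : s ∉ p := fun h => by
    obtain ⟨g, -, hg⟩ := (Ideal.IsPrime.prod_mem_iff (p := p)).mp h
    exact ht g hg
  have hkill : ∀ a : A, (∃ n : ℕ, a ^ n ∈ I) → s * a ∈ I := by
    intro a ⟨n, hn⟩
    have hspan : Ideal.Quotient.mk I a ∈ nilradical (A ⧸ I) :=
      ⟨n, by rw [← map_pow]; exact Ideal.Quotient.eq_zero_iff_mem.mpr hn⟩
    have hle : nilradical (A ⧸ I) ≤ (Submodule.span (A ⧸ I) {Ideal.Quotient.mk I s}).annihilator := by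
      rw [← hS, Submodule.span_le]
      intro g hg
      rw [SetLike.mem_coe, Submodule.mem_annihilator_span_singleton, smul_eq_mul, show g = Ideal.Quotient.mk I (b ⟨g, hg⟩) from (hb ⟨g, hg⟩).symm, ← map_mul,
        Ideal.Quotient.eq_zero_iff_mem]
      obtain ⟨r, hr⟩ := Finset.dvd_prod_of_mem t (Finset.mem_univ (⟨g, hg⟩ : S))
      rw [hs', hr, mul_comm (t _) r, ← mul_assoc, mul_comm (b _) r, mul_assoc, mul_comm (b _)]
      exact I.mul_mem_left r (htb ⟨g, hg⟩)
    have h0 := hle hspan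
    rw [Submodule.mem_annihilator_span_singleton, smul_eq_mul, ← map_mul, Ideal.Quotient.eq_zero_iff_mem,
      mul_comm] at h0
    exact h0
  -- pass to `A_s`
  let A' := Localization.Away s
  haveI : Module.Flat A A' := IsLocalization.flat A' (Submonoid.powers s)
  haveI : Algebra.FiniteType A A' := IsLocalization.finiteType_of_monoid_fg (Submonoid.powers s) A'
  haveI : Algebra.FiniteType R A' := Algebra.FiniteType.trans (S := A) inferInstance inferInstance
  haveI : Module.Flat R A' := Module.Flat.trans R A A'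
  have hI' : (maximalIdeal R).map (algebraMap R A') = I.map (algebraMap A A') := by
    rw [hI, Ideal.map_map, ← IsScalarTower.algebraMap_eq]
  have hq' : _root_.IsReduced (A' ⧸ (maximalIdeal R).map (algebraMap R A')) := by
    refine ⟨fun z ⟨n, hn⟩ => ?_⟩
    obtain ⟨z, rfl⟩ := Ideal.Quotient.mk_surjective z
    rw [← map_pow, Ideal.Quotient.eq_zero_iff_mem, hI'] at hn
    rw [Ideal.Quotient.eq_zero_iff_mem, hI']
    obtain ⟨a, m, rfl⟩ := IsLocalization.exists_mk'_eq (Submonoid.powers s) z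
    rw [← IsLocalization.mk'_pow] at hn
    obtain ⟨_, ⟨k, rfl⟩, hk⟩ := (IsLocalization.mk'_mem_map_algebraMap_iff (Submonoid.powers s) A' I _ _).mp hn
    have h1 : s * (s ^ k * a) ∈ I := hkill _ ⟨n + 1, by
      have : (s ^ k * a) ^ (n + 1) = (s ^ k * a ^ n) * ((s ^ k) ^ n * a) := by ring
      rw [this]
      exact I.mul_mem_right _ hk⟩
    rw [IsLocalization.mk'_mem_map_algebraMap_iff (Submonoid.powers s) A' I]
    exact ⟨s ^ (k + 1), ⟨k + 1, rfl⟩, by rw [pow_succ', mul_assoc]; exact h1⟩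
  let P' := p.map (algebraMap A A')
  have hdisj : Disjoint (Submonoid.powers s : Set A) p := Set.disjoint_left.mpr (by
    rintro _ ⟨k, rfl⟩ h
    exact hsp (Ideal.IsPrime.mem_of_pow_mem ‹_› k h))
  haveI : P'.IsPrime := IsLocalization.isPrime_of_isPrime_disjoint (Submonoid.powers s) A' p ‹_› hdisj
  refine ⟨fun z hz => ?_⟩
  obtain ⟨a, c, rfl⟩ := IsLocalization.exists_mk'_eq q.primeCompl z
  obtain ⟨N, hN⟩ := hz
  rw [← IsLocalization.mk'_pow, IsLocalization.mk'_eq_zero_iff] at hN
  obtain ⟨⟨v, hv⟩, hvN⟩ := hN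
  obtain ⟨u, hu, hu'⟩ := FlatMisc.ValuationRed.exists_mul_eq_zero hq' (q := P')
    (hI'.le.trans (Ideal.map_mono hp)) (a := algebraMap A A' (v * a))
    (IsNilpotent.map ⟨N + 1, by
      calc (v * a) ^ (N + 1) = v ^ N * a * (v * a ^ N) := by ring
        _ = 0 := by rw [show v * a ^ N = 0 from hvN, mul_zero]⟩ _)
  obtain ⟨u₀, m, rfl⟩ := IsLocalization.exists_mk'_eq (Submonoid.powers s) u
  have hu₀ : u₀ ∉ p := fun h => hu ((IsLocalization.mk'_mem_map_algebraMap_iff (Submonoid.powers s) A' p _ _).mpr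
    ⟨1, Submonoid.one_mem _, by rwa [one_mul]⟩)
  rw [← IsLocalization.mk'_one (M := Submonoid.powers s) (S := A') (v * a), ← IsLocalization.mk'_mul,
    IsLocalization.mk'_eq_zero_iff] at hu'
  obtain ⟨⟨_, k, rfl⟩, hk⟩ := hu'
  rw [IsLocalization.mk'_eq_zero_iff]
  refine ⟨⟨s ^ k * u₀ * v, q.primeCompl.mul_mem (q.primeCompl.mul_mem
    (fun h => hsp (hqp (Ideal.IsPrime.mem_of_pow_mem ‹_› k h))) (fun h => hu₀ (hqp h))) hv⟩, ?_⟩
  calc s ^ k * u₀ * v * a = s ^ k * (u₀ * (v * a)) := by ring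
    _ = 0 := hk

/-- Generizations of a reduced point of the special fibre of a flat scheme over a valuation ring are reduced. -/
theorem isReduced_stalk_of_specializes {R : Type u} [CommRing R] [IsDomain R] [ValuationRing R]
    {P : Scheme.{u}} (q : P ⟶ Spec (CommRingCat.of R)) [LocallyOfFiniteType q] [Flat q] {x x' : P}
    (hx : q x = closedPoint R) (hred : _root_.IsReduced ((q.fiber (q x)).presheaf.stalk (q.asFiber x)))
    (h : x' ⤳ x) : _root_.IsReduced (P.presheaf.stalk x') := by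
  obtain ⟨W, hW, hxW, -⟩ := exists_isAffineOpen_mem_and_subset (x := x) (U := ⊤) trivial
  have hx'W : x' ∈ W := h.mem_open W.2 hxW
  let T := Spec (CommRingCat.of R)
  let V : T.Opens := ⊤
  have hV : IsAffineOpen V := isAffineOpen_top T
  have e : W ≤ q ⁻¹ᵁ V := fun _ _ => trivial
  -- the ring of functions of the base
  let ι : R →+* Γ(T, V) := (Scheme.ΓSpecIso (CommRingCat.of R)).inv.hom
  have hι : Function.Bijective ι := (Scheme.ΓSpecIso (CommRingCat.of R)).symm.commRingCatIsoToRingEquiv.bijective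
  let φ : R →+* Γ(P, W) := (q.appLE V W e).hom.comp ι
  letI := φ.toAlgebra
  have hft : φ.FiniteType := (q.finiteType_appLE hV hW e).comp (RingHom.FiniteType.of_surjective ι hι.2)
  haveI : Algebra.FiniteType R Γ(P, W) := hft
  have hflat : φ.Flat := (RingHom.Flat.of_bijective hι).comp (HasRingHomProperty.appLE @Flat q inferInstance ⟨V, hV⟩ ⟨W, hW⟩ e)
  haveI : Module.Flat R Γ(P, W) := hflat
  let p := (hW.primeIdealOf ⟨x, hxW⟩).asIdeal
  let p' := (hW.primeIdealOf ⟨x', hx'W⟩).asIdeal
  have hle : p' ≤ p := by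
    refine (PrimeSpectrum.le_iff_specializes (hW.primeIdealOf ⟨x', hx'W⟩) (hW.primeIdealOf ⟨x, hxW⟩)).mpr ?_
    refine hW.fromSpec.isOpenEmbedding.isEmbedding.specializes_iff.mp ?_
    show hW.fromSpec (hW.primeIdealOf ⟨x', hx'W⟩) ⤳ hW.fromSpec (hW.primeIdealOf ⟨x, hxW⟩)
    rw [hW.fromSpec_primeIdealOf, hW.fromSpec_primeIdealOf]
    exact h
  -- the stalk of the base at the closed point
  letI : Algebra Γ(T, V) (T.presheaf.stalk (q x)) := (T.presheaf.germ V (q x) trivial).hom.toAlgebra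
  haveI : IsLocalization.AtPrime (T.presheaf.stalk (q x)) (hV.primeIdealOf ⟨q x, trivial⟩).asIdeal :=
    hV.isLocalization_stalk ⟨q x, trivial⟩
  have hmax : (hV.primeIdealOf ⟨q x, trivial⟩).asIdeal = (maximalIdeal R).map ι := by
    have h1 : hV.fromSpec (hV.primeIdealOf ⟨q x, trivial⟩) = closedPoint R :=
      (hV.fromSpec_primeIdealOf _).trans hx
    have h2 : (hV.primeIdealOf ⟨q x, trivial⟩).asIdeal.comap ι = maximalIdeal R := by
      have h3 := congrArg PrimeSpectrum.asIdeal h1
      have hfs : hV.fromSpec = Spec.map (Scheme.ΓSpecIso (CommRingCat.of R)).inv :=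
        (IsAffineOpen.fromSpec_top (X := Spec (CommRingCat.of R))).trans (Scheme.isoSpec_Spec_inv _)
      rw [hfs] at h3
      exact h3
    rw [← h2, Ideal.map_comap_of_surjective ι hι.2]
  letI : Algebra Γ(P, W) (P.presheaf.stalk x) := (P.presheaf.germ W x hxW).hom.toAlgebra
  haveI : IsLocalization.AtPrime (P.presheaf.stalk x) p := hW.isLocalization_stalk ⟨x, hxW⟩
  obtain ⟨ψ, hψs, hψk⟩ := FlatMor.FibreStalk.exists_fibre_stalk q x
  have hker : RingHom.ker ψ = ((maximalIdeal R).map φ).map (algebraMap Γ(P, W) (P.presheaf.stalk x)) := by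
    rw [hψk, ← IsLocalization.AtPrime.map_eq_maximalIdeal (hV.primeIdealOf ⟨q x, trivial⟩).asIdeal
      (T.presheaf.stalk (q x)), hmax, Ideal.map_map, Ideal.map_map, Ideal.map_map]
    refine congrArg (fun g => Ideal.map g (maximalIdeal R)) (RingHom.ext fun r => ?_)
    exact FlatOpen.Scheme.stalkMap_germ q e x hxW (ι r)
  have hmaxp : (maximalIdeal R).map (algebraMap R Γ(P, W)) ≤ p := fun b hb => by
    by_contra hbp
    have h1 : algebraMap Γ(P, W) (P.presheaf.stalk x) b ∈ RingHom.ker ψ := hker.ge (Ideal.mem_map_of_mem _ hb)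
    haveI : Nontrivial ((q.fiber (q x)).presheaf.stalk (q.asFiber x)) := inferInstance
    exact ((IsLocalization.map_units (P.presheaf.stalk x) (⟨b, hbp⟩ : p.primeCompl)).map ψ).ne_zero h1
  have hred' : _root_.IsReduced (Localization.AtPrime p') := by
    refine isReduced_localization_of_reduced_quotient_at (R := R) p p' hle hmaxp fun b ⟨n, hn⟩ => ?_
    have h1 : ψ (algebraMap _ _ b) = 0 := IsReduced.eq_zero _ ⟨n, by
      rw [← map_pow, ← map_pow]
      exact hker.ge (Ideal.mem_map_of_mem _ hn)⟩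
    obtain ⟨t, ht, htb⟩ := (IsLocalization.algebraMap_mem_map_algebraMap_iff p.primeCompl _ _ _).mp (hker.le h1)
    exact ⟨t, ht, htb⟩
  letI : Algebra Γ(P, W) (P.presheaf.stalk x') := (P.presheaf.germ W x' hx'W).hom.toAlgebra
  haveI : IsLocalization.AtPrime (P.presheaf.stalk x') p' := hW.isLocalization_stalk ⟨x', hx'W⟩
  exact isReduced_of_injective (IsLocalization.algEquiv p'.primeCompl (P.presheaf.stalk x') (Localization.AtPrime p')).toRingHom
    (IsLocalization.algEquiv p'.primeCompl (P.presheaf.stalk x') (Localization.AtPrime p')).injective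

end Groth.Agent.GRLocus
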