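import Mathlib
import Groth.Agent.GRLocus.Basic
import Groth.Agent.GRLocus.Valuation
import Groth.Agent.EtaPtLib.Basic
import Groth.Agent.S2521

/-!
Openness of the locus where the fibre is geometrically reduced (EGA IV 12.1.1 vii, 12.2.1).
-/

set_option autoImplicit false
set_option linter.style.haveILetI false
universe u
open CategoryTheory AlgebraicGeometry Limits Topology TopologicalSpace

noncomputable section

namespace Groth.Agent.GRLocus

variable {X Y : Scheme.{u}}

/-- A flat preimmersion induces isomorphisms of local rings. -/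
theorem stalkMap_bijective_of_flat {P Q : Scheme.{u}} (g : P ⟶ Q) [Flat g] [IsPreimmersion g] (w : P) :
    Function.Bijective (g.stalkMap w).hom := by
  refine ⟨?_, g.stalkMap_surjective w⟩
  letI := (g.stalkMap w).hom.toAlgebra
  haveI : Module.Flat (Q.presheaf.stalk (g w)) (P.presheaf.stalk w) := Flat.stalkMap g w
  haveI : IsLocalHom (algebraMap (Q.presheaf.stalk (g w)) (P.presheaf.stalk w)) :=
    inferInstanceAs (IsLocalHom (g.stalkMap w).hom)
  haveI := Module.FaithfullyFlat.of_flat_of_isLocalHom (A := Q.presheaf.stalk (g w)) (B := P.presheaf.stalk w)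
  exact FaithfulSMul.algebraMap_injective (Q.presheaf.stalk (g w)) (P.presheaf.stalk w)

/-- The locus is stable under generization. -/
theorem mem_locus_of_specializes (f : X ⟶ Y) [Flat f] [LocallyOfFiniteType f] {x' x : X} (h : x' ⤳ x)
    (hx : x ∈ locus f) : x' ∈ locus f := by
  obtain ⟨U, hU, hxU, -⟩ := exists_isAffineOpen_mem_and_subset (x := x) (U := ⊤) trivial
  obtain ⟨p₁, rfl⟩ : x ∈ Set.range hU.fromSpec := by rw [hU.range_fromSpec]; exact hxU
  obtain ⟨p₀, rfl⟩ : x' ∈ Set.range hU.fromSpec := by rw [hU.range_fromSpec]; exact h.mem_open U.2 hxU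
  have hpq : p₀.asIdeal ≤ p₁.asIdeal :=
    (PrimeSpectrum.le_iff_specializes p₀ p₁).mpr (hU.fromSpec.isOpenEmbedding.isInducing.specializes_iff.mp h)
  let K := AlgebraicClosure p₀.asIdeal.ResidueField
  let g : Γ(X, U) →+* K :=
    (algebraMap p₀.asIdeal.ResidueField K).comp (algebraMap Γ(X, U) p₀.asIdeal.ResidueField)
  have hg : RingHom.ker g = p₀.asIdeal := by
    rw [RingHom.ker_comp_of_injective _ (algebraMap p₀.asIdeal.ResidueField K).injective,
      Ideal.ker_algebraMap_residueField]
  obtain ⟨V, g', hg', hker⟩ := EtaPtLib.exists_valuationSubring g p₁ (le_of_eq_of_le hg hpq)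
  let T := Spec (CommRingCat.of V)
  let l : T ⟶ X := Spec.map (CommRingCat.ofHom g') ≫ hU.fromSpec
  let η : Spec (CommRingCat.of K) ⟶ T := Spec.map (CommRingCat.ofHom (algebraMap V K))
  let c : ↥T := IsLocalRing.closedPoint V
  let o : ↥(Spec (CommRingCat.of K)) := IsLocalRing.closedPoint K
  have hlc : l c = hU.fromSpec p₁ := by
    show hU.fromSpec (PrimeSpectrum.comap g' (IsLocalRing.closedPoint V)) = _
    refine congrArg hU.fromSpec (PrimeSpectrum.ext ?_)
    show (IsLocalRing.maximalIdeal V).comap g' = p₁.asIdeal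
    rw [← hker, ← RingHom.comap_ker, IsLocalRing.ker_residue]
  have hlo : l (η o) = hU.fromSpec p₀ := by
    show hU.fromSpec (PrimeSpectrum.comap g' (PrimeSpectrum.comap (algebraMap V K) (IsLocalRing.closedPoint K))) = _
    refine congrArg hU.fromSpec (PrimeSpectrum.ext ?_)
    show ((IsLocalRing.maximalIdeal K).comap (algebraMap V K)).comap g' = p₀.asIdeal
    rw [Ideal.comap_comap, IsLocalRing.maximalIdeal_eq_bot, ← RingHom.ker_eq_comap_bot]
    show RingHom.ker (V.subtype.comp g') = p₀.asIdeal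
    rw [hg', hg]
  let b := l ≫ f
  let P := pullback f b
  let q := pullback.snd f b
  let σ : T ⟶ P := pullback.lift l (𝟙 T) (by rw [Category.id_comp])
  have hσ : ∀ t, q (σ t) = t ∧ pullback.fst f b (σ t) = l t := fun t =>
    ⟨congrArg (fun m => (m : T ⟶ T) t) (pullback.lift_snd l (𝟙 T) _),
      congrArg (fun m => (m : T ⟶ X) t) (pullback.lift_fst l (𝟙 T) _)⟩
  haveI : Flat q := inferInstanceAs (Flat (pullback.snd f b))
  haveI : LocallyOfFiniteType q := inferInstanceAs (LocallyOfFiniteType (pullback.snd f b))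
  have hqc : q (σ c) = IsLocalRing.closedPoint V := (hσ c).1
  have hred : _root_.IsReduced ((q.fiber (q (σ c))).presheaf.stalk (q.asFiber (σ c))) :=
    SecComp.Generize.isReduced_stalk_fiber f b (q (σ c)) (q.asFiber (σ c)) (hU.fromSpec p₁)
      (by
        show pullback.fst f b (q.fiberι (q (σ c)) (q.asFiber (σ c))) = _
        rw [Scheme.Hom.fiberι_asFiber, (hσ c).2, hlc]) hx
  have hspec : σ (η o) ⤳ σ c := (IsLocalRing.specializes_closedPoint (η o)).map σ.continuous
  haveI hredo : _root_.IsReduced (P.presheaf.stalk (σ (η o))) :=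
    isReduced_stalk_of_specializes q hqc hred hspec
  haveI : Flat η := (HasRingHomProperty.Spec_iff (P := @Flat)).mpr
    (RingHom.flat_algebraMap_iff.mpr (IsLocalization.flat K (nonZeroDivisors V)))
  haveI : IsPreimmersion η := IsPreimmersion.of_isLocalization (nonZeroDivisors V)
  obtain ⟨w, hw₁, hw₂⟩ := Scheme.Pullback.exists_preimage_pullback (f := q) (g := η) (σ (η o)) o (hσ _).1
  haveI : _root_.IsReduced (P.presheaf.stalk (pullback.fst q η w)) := by rw [hw₁]; exact hredo
  haveI hredw : _root_.IsReduced ((pullback q η).presheaf.stalk w) :=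
    isReduced_of_injective (RingEquiv.ofBijective _ (stalkMap_bijective_of_flat (pullback.fst q η) w)).symm.toRingHom
      (RingEquiv.ofBijective _ (stalkMap_bijective_of_flat (pullback.fst q η) w)).symm.injective
  obtain ⟨⟨y, φ⟩, hφ⟩ := (Scheme.SpecToEquivOfField K Y).symm.surjective (η ≫ b)
  have hy : f (hU.fromSpec p₀) = y := by
    have h1 := congrArg (fun m : Spec (CommRingCat.of K) ⟶ Y => m o) hφ
    simp only [Scheme.SpecToEquivOfField, Equiv.coe_fn_symm_mk, Scheme.Hom.comp_apply, b] at h1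
    rw [Scheme.fromSpecResidueField_apply, hlo] at h1
    exact h1.symm
  refine SecComp.isGeomReducedAt_of_fiber f _ hy fun z hz => ?_
  let fk := f.fiberToSpecResidueField y
  let ψ := Spec.map φ
  have hψ : ψ ≫ Y.fromSpecResidueField y = η ≫ b := hφ
  have h1 : IsPullback (pullback.fst fk ψ ≫ f.fiberι y) (pullback.snd fk ψ) f (η ≫ b) :=
    hψ ▸ (IsPullback.of_hasPullback fk ψ).paste_horiz
      (IsPullback.of_hasPullback f (Y.fromSpecResidueField y))
  have h2 : IsPullback (pullback.fst q η ≫ pullback.fst f b) (pullback.snd q η) f (η ≫ b) :=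
    (IsPullback.of_hasPullback q η).paste_horiz (IsPullback.of_hasPullback f b)
  let e := h2.isoIsPullback _ _ h1
  have he : e.hom ≫ pullback.fst fk ψ ≫ f.fiberι y = pullback.fst q η ≫ pullback.fst f b :=
    h2.isoIsPullback_hom_fst _ _ h1
  refine @S2521.result _ K _ _ φ.hom.toAlgebra _ _ fk z (e.hom w) ((f.fiberι y).isEmbedding.injective ?_) ?_
  · rw [hz]
    refine (congrArg (fun m => (m : _ ⟶ X) w) he).trans ?_
    show pullback.fst f b (pullback.fst q η w) = _
    rw [hw₁, (hσ _).2, hlo]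
  · show _root_.IsReduced ((pullback fk ψ).presheaf.stalk (e.hom w))
    exact isReduced_of_injective (asIso (e.hom.stalkMap w)).commRingCatIsoToRingEquiv.toRingHom
      (asIso (e.hom.stalkMap w)).commRingCatIsoToRingEquiv.injective

/-- Openness over a Noetherian affine base. -/
theorem isOpen_locus_noetherian [IsAffine Y] [IsNoetherian Y] [IsNoetherian X] (f : X ⟶ Y) [Flat f]
    [LocallyOfFiniteType f] : IsOpen (locus f) := by
  refine isOpen_iff_mem_nhds.mpr fun x hx => ConstrLib.mem_nhds_of_forall_irreducible fun F hF hFi hxF => ?_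
  obtain ⟨ξ, hξ⟩ := QuasiSober.sober hFi hF
  exact exists_open_inter_subset f hξ (mem_locus_of_specializes f (hξ.specializes hxF) hx)

/-- Openness over a limit of Noetherian affine schemes. -/
theorem isOpen_locus_of_limit {I : Type u} [SmallCategory I] [IsCofiltered I]
    {D : I ⥤ Scheme.{u}} {c : Cone D} (hc : IsLimit c) [∀ i, IsAffine (D.obj i)]
    [∀ i, IsNoetherian (D.obj i)] [IsAffine c.pt] (f : X ⟶ c.pt)
    [LocallyOfFinitePresentation f] [QuasiCompact f] [QuasiSeparated f] [Flat f] : IsOpen (locus f) := by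
  haveI := QuasiCompact.compactSpace_of_compactSpace f
  haveI := quasiSeparatedSpace_of_quasiSeparated f
  obtain ⟨i₀, X₀, u₀, g₀, a₀, b₀, c₀, s₀⟩ := LimLib.hasModel hc f
  haveI : ∀ (i j : I) (a : i ⟶ j), IsAffineHom (D.map a) := fun i j a => inferInstance
  haveI := a₀
  haveI := b₀
  haveI := c₀
  obtain ⟨i₁, φ₁, hfl⟩ := FlatDescends.descends_flat D c hc (fun i j a => inferInstance)
    (fun i => inferInstance) (fun i => inferInstance) i₀ X₀ u₀ inferInstance inferInstance a₀ X g₀ f s₀
    (show Flat f from inferInstance)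
  let u₁ := pullback.snd u₀ (D.map φ₁)
  haveI : Flat u₁ := hfl
  haveI : QuasiCompact u₀ := quasiCompact_of_compactSpace u₀
  haveI : CompactSpace ↥(pullback u₀ (D.map φ₁)) := QuasiCompact.compactSpace_of_compactSpace u₁
  haveI : LocallyOfFiniteType u₁ := inferInstance
  haveI : IsLocallyNoetherian (pullback u₀ (D.map φ₁)) := LocallyOfFiniteType.isLocallyNoetherian u₁
  haveI : IsNoetherian (pullback u₀ (D.map φ₁)) := {}
  let g₁ : X ⟶ pullback u₀ (D.map φ₁) := pullback.lift g₀ (f ≫ c.π.app i₁)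
    (by rw [s₀.w, Category.assoc, c.w])
  have s₁ : IsPullback g₁ f u₁ (c.π.app i₁) :=
    IsPullback.of_right (by simpa only [g₁, pullback.lift_fst, c.w] using s₀) (pullback.lift_snd _ _ _)
      (IsPullback.of_hasPullback u₀ (D.map φ₁))
  have heq : locus f = g₁ ⁻¹' locus u₁ := Set.ext fun x =>
    ⟨fun hx => SecComp.isGeomReducedAt_descend s₁ x hx, fun hx => SecDim.isGeomReducedAt_baseChange s₁ x hx⟩
  rw [heq]
  exact (isOpen_locus_noetherian u₁).preimage g₁.continuous

/-- The geometrically reduced locus of a flat morphism locally of finite presentation is open. -/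
theorem isOpen_locus (f : X ⟶ Y) [Flat f] [LocallyOfFinitePresentation f] : IsOpen (locus f) := by
  refine isOpen_iff_mem_nhds.mpr fun x hx => ?_
  obtain ⟨V, hV, hxV, -⟩ := exists_isAffineOpen_mem_and_subset (x := f x) (U := ⊤) trivial
  obtain ⟨U, hU, hxU, hUV⟩ := exists_isAffineOpen_mem_and_subset (x := x) (U := f ⁻¹ᵁ V) hxV
  obtain ⟨I, _, _, D, c, e, ⟨hc⟩, _, _⟩ := ConsPairLib.exists_noetherian_limit Γ(Y, V)
  haveI : IsAffine c.pt := .of_isIso e.hom
  haveI : IsAffine (U : Scheme.{u}) := hU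
  let i : c.pt ≅ (V : Scheme.{u}) := e ≪≫ hV.isoSpec.symm
  let f' : (U : Scheme.{u}) ⟶ c.pt := f.resLE V U hUV ≫ i.inv
  have w : f' ≫ (i.hom ≫ V.ι) = U.ι ≫ f := by
    simp only [f', Category.assoc, Iso.inv_hom_id_assoc, Scheme.Hom.resLE_comp_ι]
  haveI : Flat f' := inferInstanceAs (Flat (f.resLE V U hUV ≫ i.inv))
  haveI : LocallyOfFinitePresentation f' := inferInstanceAs (LocallyOfFinitePresentation (f.resLE V U hUV ≫ i.inv))
  haveI : IsAffineHom f' := isAffineHom_of_isAffine _
  have hopen := isOpen_locus_of_limit hc f'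
  have heq : locus f' = U.ι ⁻¹' locus f := Set.ext fun z => mem_locus_restrict_iff w z
  rw [heq] at hopen
  refine Filter.mem_of_superset ((U.ι.isOpenMap _ hopen).mem_nhds ⟨⟨x, hxU⟩, hx, rfl⟩) ?_
  exact Set.image_preimage_subset _ _

/-- The set of points where `f` is flat with geometrically reduced fibre is open. -/
theorem isOpen_flat_locus (f : X ⟶ Y) [LocallyOfFinitePresentation f] :
    IsOpen {x : X | (f.stalkMap x).hom.Flat ∧ x ∈ locus f} := by
  let U : X.Opens := ⟨_, FlatOpen.Scheme.isOpen_stalkMap_flat f⟩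
  let fU := U.ι ≫ f
  haveI : Flat fU := by
    rw [Flat.iff_flat_stalkMap]
    intro z
    rw [Scheme.Hom.stalkMap_comp]
    exact RingHom.Flat.comp (z.2 : (f.stalkMap (U.ι z)).hom.Flat) (Flat.stalkMap U.ι z)
  have w : fU ≫ 𝟙 Y = U.ι ≫ f := Category.comp_id _
  have heq : {x : X | (f.stalkMap x).hom.Flat ∧ x ∈ locus f} = U.ι '' locus fU := by
    ext x
    constructor
    · rintro ⟨h1, h2⟩
      exact ⟨⟨x, h1⟩, (mem_locus_restrict_iff w _).mpr h2, rfl⟩
    · rintro ⟨z, hz, rfl⟩
      exact ⟨z.2, (mem_locus_restrict_iff w z).mp hz⟩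
  rw [heq]
  exact U.ι.isOpenMap _ (isOpen_locus fU)

end Groth.Agent.GRLocus
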