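import Mathlib
import Groth.Agent.GRLocus.Open
import Groth.Agent.SecComp.GeomNear

/-!
The geometrically reduced locus is locally constructible (EGA IV 9.9.2).
-/

set_option autoImplicit false
set_option linter.style.haveILetI false
universe u
open CategoryTheory AlgebraicGeometry Limits Topology TopologicalSpace

noncomputable section

namespace Groth.Agent.GRLocus

variable {X Y : Scheme.{u}}

theorem isConstructible_locus_noetherian [IsNoetherian X] (f : X ⟶ Y) [LocallyOfFiniteType f] [QuasiCompact f] :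
    IsConstructible (locus f) := by
  let E := locus f
  suffices H : ∀ F : Set X, IsClosed F → IsConstructible (E ∩ F) by simpa using H Set.univ isClosed_univ
  intro F hF
  refine ConstrLib.irreducible_induction (P := fun F => IsConstructible (E ∩ F)) (by simp)
    (fun A B _ _ hA hB => by simp only [Set.inter_union_distrib_left]; exact hA.union hB) ?_ hF
  intro F hF hFi ih
  let ξ := hFi.genericPoint
  have hξ : IsGenericPoint ξ F := hF.closure_eq ▸ hFi.isGenericPoint_genericPoint_closure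
  obtain ⟨A, _, X', u, e, j, hc, hj, hfl, hfp, -, -, ⟨O, hO, hr⟩, hgen⟩ :=
    SecComp.exists_model_closure f (f ξ)
  haveI : IsPreimmersion e := MorphismProperty.of_isPullback hc.flip hj
  have hOξ : f ξ ∈ O := (hr.le ⟨_, hgen⟩).1
  -- every point of `F` over `O` comes from the flat model
  have hlift : ∀ x ∈ F, f x ∈ O → ∃ x', e x' = x := fun x hxF hxO => by
    obtain ⟨t, ht⟩ : f x ∈ Set.range j :=
      hr.ge ⟨hxO, specializes_iff_mem_closure.mp ((hξ.specializes hxF).map f.continuous)⟩
    obtain ⟨x', hx', -⟩ := Scheme.exists_preimage_of_isPullback hc x t ht.symm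
    exact ⟨x', hx'⟩
  have heq : locus u = e ⁻¹' E := Set.ext fun x' =>
    ⟨fun hx => SecComp.isGeomReducedAt_descend hc x' hx, fun hx => SecDim.isGeomReducedAt_baseChange hc x' hx⟩
  obtain ⟨ξ', hξ'⟩ := hlift ξ hξ.mem hOξ
  obtain ⟨U, hU, hξU, hdec⟩ : ∃ U : Set X, IsOpen U ∧ ξ ∈ U ∧ (U ∩ F ⊆ E ∨ Disjoint (U ∩ F) E) := by
    by_cases hmem : ξ' ∈ locus u
    · obtain ⟨U', hU', hUeq⟩ := e.isEmbedding.isInducing.isOpen_iff.mp (isOpen_locus u)
      refine ⟨U' ∩ f ⁻¹' O, hU'.inter (hO.preimage f.continuous), ⟨?_, hOξ⟩, Or.inl ?_⟩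
      · rw [← hξ']
        exact hUeq.ge hmem
      · rintro x ⟨⟨hxU, hxO⟩, hxF⟩
        obtain ⟨x', rfl⟩ := hlift x hxF hxO
        have h1 : x' ∈ locus u := hUeq.le hxU
        rw [heq] at h1
        exact h1
    · refine ⟨f ⁻¹' O, hO.preimage f.continuous, hOξ, Or.inr (Set.disjoint_left.mpr fun x hx hxE => hmem ?_)⟩
      obtain ⟨x', rfl⟩ := hlift x hx.2 hx.1
      have h1 : x' ∈ locus u := by rw [heq]; exact hxE
      have hs : ξ' ⤳ x' := e.isEmbedding.specializes_iff.mp (hξ'.symm ▸ hξ.specializes hx.2)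
      exact mem_locus_of_specializes u hs h1
  have hloc : IsConstructible (E ∩ (U ∩ F)) := by
    rcases hdec with h | h
    · rw [Set.inter_eq_right.mpr h]
      exact (ConstrLib.isConstructible_of_isOpen hU).inter (ConstrLib.isConstructible_of_isClosed hF)
    · rw [h.symm.inter_eq]
      exact IsConstructible.empty
  have hrest := ih (F \ U) (hF.sdiff hU) (ConstrLib.sdiff_open_ssubset ⟨ξ, hξU, hξ.mem⟩)
  convert hloc.union hrest using 1
  rw [← Set.inter_union_distrib_left]
  congr 1
  ext x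
  simp only [Set.mem_union, Set.mem_inter_iff, Set.mem_diff]
  tauto

theorem isLocallyConstructible_locus_of_limit {I : Type u} [SmallCategory I] [IsCofiltered I]
    {D : I ⥤ Scheme.{u}} {c : Cone D} (hc : IsLimit c) [∀ i, IsAffine (D.obj i)]
    [∀ i, IsNoetherian (D.obj i)] [IsAffine c.pt] (f : X ⟶ c.pt)
    [LocallyOfFinitePresentation f] [QuasiCompact f] [QuasiSeparated f] :
    IsLocallyConstructible (locus f) := by
  haveI := QuasiCompact.compactSpace_of_compactSpace f
  haveI := quasiSeparatedSpace_of_quasiSeparated f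
  obtain ⟨i₀, X₀, u₀, g₀, a₀, b₀, c₀, s₀⟩ := LimLib.hasModel hc f
  haveI := a₀
  haveI := b₀
  haveI := c₀
  haveI : QuasiCompact u₀ := quasiCompact_of_compactSpace u₀
  haveI : LocallyOfFiniteType u₀ := inferInstance
  haveI : IsLocallyNoetherian X₀ := LocallyOfFiniteType.isLocallyNoetherian u₀
  haveI : IsNoetherian X₀ := {}
  have heq : locus f = g₀ ⁻¹' locus u₀ := Set.ext fun x =>
    ⟨fun hx => SecComp.isGeomReducedAt_descend s₀ x hx, fun hx => SecDim.isGeomReducedAt_baseChange s₀ x hx⟩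
  rw [heq]
  exact ProConsPre.isLocallyConstructible_preimage g₀ (isConstructible_locus_noetherian u₀).isLocallyConstructible

/-- The geometrically reduced locus of a morphism locally of finite presentation is locally constructible. -/
theorem isLocallyConstructible_locus (f : X ⟶ Y) [LocallyOfFinitePresentation f] :
    IsLocallyConstructible (locus f) := by
  refine IsLocallyConstructible.of_isOpenCover
    (U := fun W : {W : Y.affineOpens × X.affineOpens // W.2.1 ≤ f ⁻¹ᵁ W.1.1} => W.1.2.1) ?_ fun W => ?_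
  · refine TopologicalSpace.Opens.ext (Set.eq_univ_of_forall fun x => ?_)
    obtain ⟨V, hV, hxV, -⟩ := exists_isAffineOpen_mem_and_subset (x := f x) (U := ⊤) trivial
    obtain ⟨U, hU, hxU, hUV⟩ := exists_isAffineOpen_mem_and_subset (x := x) (U := f ⁻¹ᵁ V) hxV
    rw [TopologicalSpace.Opens.coe_iSup, Set.mem_iUnion]
    exact ⟨⟨(⟨V, hV⟩, ⟨U, hU⟩), hUV⟩, hxU⟩
  obtain ⟨⟨⟨V, hV⟩, ⟨U, hU⟩⟩, hUV⟩ := W
  obtain ⟨I, _, _, D, c, e, ⟨hc⟩, _, _⟩ := ConsPairLib.exists_noetherian_limit Γ(Y, V)
  haveI : IsAffine c.pt := .of_isIso e.hom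
  haveI : IsAffine (U : Scheme.{u}) := hU
  let i : c.pt ≅ (V : Scheme.{u}) := e ≪≫ hV.isoSpec.symm
  let f' : (U : Scheme.{u}) ⟶ c.pt := f.resLE V U hUV ≫ i.inv
  have w : f' ≫ (i.hom ≫ V.ι) = U.ι ≫ f := by
    simp only [f', Category.assoc, Iso.inv_hom_id_assoc, Scheme.Hom.resLE_comp_ι]
  haveI : LocallyOfFinitePresentation f' := inferInstanceAs (LocallyOfFinitePresentation (f.resLE V U hUV ≫ i.inv))
  haveI : IsAffineHom f' := isAffineHom_of_isAffine _
  have h := isLocallyConstructible_locus_of_limit hc f'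
  have heq : locus f' = U.ι ⁻¹' locus f := Set.ext fun z => mem_locus_restrict_iff w z
  rw [heq] at h
  exact h

end Groth.Agent.GRLocus
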